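import Groth.Agent.EtMilLib.Glue
import Mathlib.RingTheory.FinitePresentation
import Mathlib.RingTheory.Smooth.Fiber
import Mathlib.RingTheory.Smooth.Flat
import Mathlib.RingTheory.Etale.Basic
import Mathlib.RingTheory.Kaehler.TensorProduct
import Mathlib.RingTheory.LocalRing.ResidueField.Ideal

/-! Milnor squares: descent of properties of algebras. -/

universe u

open TensorProduct

namespace Groth.Agent.EtMilLib

variable {B' B A' A : Type u} [CommRing B'] [CommRing B] [CommRing A'] [CommRing A]
  [Algebra B' B] [Algebra B' A'] [Algebra B A] [Algebra A' A] [Algebra B' A]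
  [IsScalarTower B' B A] [IsScalarTower B' A' A]
  (hsq : EtMil.IsFibreSquare B' B A' A)

include hsq

/-- A module killed by both base changes is zero. -/
lemma eq_zero_of_baseChange {Q : Type u} [AddCommGroup Q] [Module B' Q]
    (hB : ∀ x : Q, ((1 : B) ⊗ₜ[B'] x : B ⊗[B'] Q) = 0)
    (hA : ∀ x : Q, ((1 : A') ⊗ₜ[B'] x : A' ⊗[B'] Q) = 0) (x : Q) : x = 0 := by
  have h : (⊥ : Submodule B' Q) = ⊤ := by
    refine eq_top_of_baseChange hsq ⊥ (fun l => ⟨0, zero_mem _, by rw [sub_zero]; exact hB l⟩) ?_
    refine eq_top_iff.mpr fun y _ => ?_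
    induction y with
    | zero => exact zero_mem _
    | tmul a m =>
      have : (a ⊗ₜ[B'] m : A' ⊗[B'] Q) = a • ((1 : A') ⊗ₜ[B'] m) := by
        rw [TensorProduct.smul_tmul', smul_eq_mul, mul_one]
      rw [this, hA, smul_zero]; exact zero_mem _
    | add a b ha hb => exact add_mem (ha trivial) (hb trivial)
  have : x ∈ (⊥ : Submodule B' Q) := h ▸ Submodule.mem_top
  exact (Submodule.mem_bot B').mp this

omit hsq in
lemma one_tmul_ker_eq_zero {S : Type u} [CommRing S] [Algebra B' S]
    {M L : Type u} [AddCommGroup M] [Module B' M] [AddCommGroup L] [Module B' L] [Module.Flat B' L]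
    (f : M →ₗ[B'] L) (hf : Function.Surjective f) (N : Submodule B' M) (hN : N ≤ LinearMap.ker f)
    (h : LinearMap.ker (f.lTensor S) ≤ LinearMap.range (N.subtype.lTensor S))
    (x : LinearMap.ker (N.liftQ f hN)) : ((1 : S) ⊗ₜ[B'] x : S ⊗[B'] LinearMap.ker (N.liftQ f hN)) = 0 := by
  let g := N.liftQ f hN
  have hg : Function.Surjective g := fun l => (hf l).elim fun m hm => ⟨Submodule.Quotient.mk m, hm⟩
  refine LinearMap.lTensor_injective_of_exact_of_flat g hg _ Subtype.val_injective
    (LinearMap.exact_subtype_ker_map g) S ?_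
  rw [LinearMap.lTensor_tmul, map_zero]
  obtain ⟨m, hm⟩ := N.mkQ_surjective (x : M ⧸ N)
  have hm0 : f m = 0 := by
    have h1 : g (x : M ⧸ N) = 0 := x.2
    rw [← hm] at h1
    exact h1
  obtain ⟨ξ, hξ⟩ := h (show ((1 : S) ⊗ₜ[B'] m : S ⊗[B'] M) ∈ LinearMap.ker (f.lTensor S) by simp [hm0])
  have := congrArg (N.mkQ.lTensor S) hξ
  rw [← LinearMap.lTensor_comp_apply, show N.mkQ ∘ₗ N.subtype = 0 from LinearMap.ext fun n => by simp,
    LinearMap.lTensor_zero, LinearMap.zero_apply, LinearMap.lTensor_tmul, hm] at this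
  exact this.symm

/-- A submodule of the kernel of a surjection onto a flat module is the whole kernel as soon as it is
so after both base changes. -/
lemma ker_eq_of_baseChange {M L : Type u} [AddCommGroup M] [Module B' M] [AddCommGroup L] [Module B' L]
    [Module.Flat B' L] (f : M →ₗ[B'] L) (hf : Function.Surjective f) (N : Submodule B' M)
    (hN : N ≤ LinearMap.ker f)
    (hB : LinearMap.ker (f.lTensor B) ≤ LinearMap.range (N.subtype.lTensor B))
    (hA : LinearMap.ker (f.lTensor A') ≤ LinearMap.range (N.subtype.lTensor A')) :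
    LinearMap.ker f = N := by
  refine le_antisymm (fun m hm => ?_) hN
  have h := eq_zero_of_baseChange hsq (Q := LinearMap.ker (N.liftQ f hN))
    (one_tmul_ker_eq_zero f hf N hN hB) (one_tmul_ker_eq_zero f hf N hN hA) ⟨N.mkQ m, hm⟩
  exact (Submodule.Quotient.mk_eq_zero N).mp (congrArg Subtype.val h)

omit hsq in
/-- Finitely many kernel elements generate the kernel after base change. -/
lemma exists_finset_ker_baseChange {S : Type u} [CommRing S] [Algebra B' S]
    {P D' : Type u} [CommRing P] [CommRing D'] [Algebra B' P] [Algebra B' D']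
    [Algebra.FinitePresentation B' P] (π : P →ₐ[B'] D') (hπ : Function.Surjective π)
    [Algebra.FinitePresentation S (S ⊗[B'] D')] :
    ∃ s : Finset P, (s : Set P) ⊆ RingHom.ker π ∧
      LinearMap.ker (π.toLinearMap.lTensor S) ≤
        LinearMap.range (((Ideal.span (s : Set P)).restrictScalars B').subtype.lTensor S) := by
  classical
  let πS : S ⊗[B'] P →ₐ[S] S ⊗[B'] D' := Algebra.TensorProduct.map (AlgHom.id S S) π
  have hπS : Function.Surjective πS := by
    intro y
    induction y with
    | zero => exact ⟨0, map_zero _⟩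
    | tmul a d =>
      obtain ⟨p, rfl⟩ := hπ d
      exact ⟨a ⊗ₜ p, by simp [πS]⟩
    | add a b ha hb =>
      obtain ⟨a, rfl⟩ := ha; obtain ⟨b, rfl⟩ := hb
      exact ⟨a + b, map_add _ _ _⟩
  have hfg : (RingHom.ker πS.toRingHom).FG := Algebra.FinitePresentation.ker_fG_of_surjective πS hπS
  have hker : RingHom.ker πS.toRingHom =
      Ideal.span ((fun p : P => ((1 : S) ⊗ₜ[B'] p : S ⊗[B'] P)) '' (RingHom.ker π : Set P)) := by
    rw [show RingHom.ker πS.toRingHom = (RingHom.ker π).map
      (Algebra.TensorProduct.includeRight : P →ₐ[B'] S ⊗[B'] P) from Algebra.TensorProduct.lTensor_ker π hπ]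
    rfl
  rw [hker] at hfg
  obtain ⟨t, hts, ht⟩ := (Submodule.fg_span_iff_fg_span_finset_subset _).mp hfg
  choose p hp hpt using fun y : t => hts y.2
  refine ⟨Finset.univ.image p, ?_, ?_⟩
  · intro x hx
    obtain ⟨y, -, rfl⟩ := Finset.mem_image.mp (Finset.mem_coe.mp hx)
    exact hp y
  intro x hx
  have hx' : x ∈ RingHom.ker πS.toRingHom := by
    rw [RingHom.mem_ker]
    have e : ∀ z, πS z = π.toLinearMap.lTensor S z := by
      intro z
      induction z with
      | zero => simp
      | tmul a d => simp [πS]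
      | add a b ha hb => rw [map_add, map_add, ha, hb]
    exact (e x).trans hx
  rw [hker] at hx'
  change x ∈ Submodule.span _ _ at hx'
  rw [ht] at hx'
  clear hx
  let N := Ideal.span ((Finset.univ.image p : Finset P) : Set P)
  induction hx' using Submodule.span_induction with
  | mem y hy =>
    refine ⟨1 ⊗ₜ ⟨p ⟨y, hy⟩, Ideal.subset_span (Finset.mem_coe.mpr (Finset.mem_image_of_mem _ (Finset.mem_univ _)))⟩, ?_⟩
    exact hpt ⟨y, hy⟩
  | zero => exact zero_mem _
  | add a b _ _ ha hb => exact add_mem ha hb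
  | smul c y _ hy =>
    obtain ⟨ξ, rfl⟩ := hy
    rw [smul_eq_mul]
    rename_i hmem
    clear hmem
    induction c with
    | zero => rw [zero_mul]; exact zero_mem _
    | add a b ha hb => rw [add_mul]; exact add_mem ha hb
    | tmul a q =>
      induction ξ with
      | zero => rw [map_zero, mul_zero]; exact zero_mem _
      | add x z hx hz => rw [map_add, mul_add]; exact add_mem hx hz
      | tmul a' n =>
        exact ⟨(a * a') ⊗ₜ ⟨q * (n : P), Ideal.mul_mem_left _ q n.2⟩, by
          rw [LinearMap.lTensor_tmul, LinearMap.lTensor_tmul]; exact (Algebra.TensorProduct.tmul_mul_tmul _ _ _ _).symm⟩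

section Algebra

variable {D' : Type u} [CommRing D'] [Algebra B' D']

/-- Finite type descends along a Milnor square. -/
lemma finiteType_of_baseChange [Algebra.FiniteType B (B ⊗[B'] D')] [Algebra.FiniteType A' (A' ⊗[B'] D')] :
    Algebra.FiniteType B' D' := by
  classical
  obtain ⟨sB, hsB⟩ := Algebra.FiniteType.out (R := B) (A := B ⊗[B'] D')
  obtain ⟨sA, hsA⟩ := Algebra.FiniteType.out (R := A') (A := A' ⊗[B'] D')
  have hfin : ∀ (S : Type u) [CommRing S] [Algebra B' S] (y : S ⊗[B'] D'), ∃ T : Finset D',
      y ∈ (Submodule.span S ((fun d : D' => ((1 : S) ⊗ₜ[B'] d : S ⊗[B'] D')) '' (T : Set D'))) := by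
    intro S _ _ y
    induction y with
    | zero => exact ⟨∅, zero_mem _⟩
    | tmul a m =>
      refine ⟨{m}, ?_⟩
      have : (a ⊗ₜ[B'] m : S ⊗[B'] D') = a • ((1 : S) ⊗ₜ[B'] m) := by
        rw [TensorProduct.smul_tmul', smul_eq_mul, mul_one]
      rw [this]
      exact Submodule.smul_mem _ _ (Submodule.subset_span ⟨m, by simp, rfl⟩)
    | add x y hx hy =>
      obtain ⟨T, hT⟩ := hx; obtain ⟨U, hU⟩ := hy
      exact ⟨T ∪ U, add_mem (Submodule.span_mono (Set.image_mono (by simp)) hT)
        (Submodule.span_mono (Set.image_mono (by simp)) hU)⟩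
  choose T hT using hfin
  let G : Finset D' := sB.biUnion (T B) ∪ sA.biUnion (T A')
  let E : Subalgebra B' D' := Algebra.adjoin B' (G : Set D')
  have key : ∀ (S : Type u) [CommRing S] [Algebra B' S] (s : Finset (S ⊗[B'] D')),
      Algebra.adjoin S (s : Set (S ⊗[B'] D')) = ⊤ → s.biUnion (T S) ⊆ G →
      ∀ y, y ∈ Submodule.span S ((fun d : D' => ((1 : S) ⊗ₜ[B'] d : S ⊗[B'] D')) '' (E : Set D')) := by
    intro S _ _ s hs hsG y
    have hy : y ∈ Algebra.adjoin S (s : Set (S ⊗[B'] D')) := hs ▸ Algebra.mem_top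
    induction hy using Algebra.adjoin_induction with
    | mem z hz =>
      refine Submodule.span_mono (Set.image_mono fun d hd => ?_) (hT S z)
      exact Algebra.subset_adjoin (Finset.mem_coe.mpr (hsG (Finset.mem_biUnion.mpr ⟨z, hz, hd⟩)))
    | algebraMap r =>
      have : algebraMap S (S ⊗[B'] D') r = r • ((1 : S) ⊗ₜ[B'] (1 : D')) := by
        rw [TensorProduct.smul_tmul', smul_eq_mul, mul_one]; rfl
      rw [this]
      exact Submodule.smul_mem _ _ (Submodule.subset_span ⟨1, one_mem _, rfl⟩)
    | add a b _ _ ha hb => exact add_mem ha hb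
    | mul a b hma hmb ha hb =>
      clear hma hmb
      induction ha using Submodule.span_induction with
      | mem a ha =>
        obtain ⟨d, hd, rfl⟩ := ha
        induction hb using Submodule.span_induction with
        | mem b hb =>
          obtain ⟨d', hd', rfl⟩ := hb
          refine Submodule.subset_span ⟨d * d', mul_mem hd hd', ?_⟩
          rw [Algebra.TensorProduct.tmul_mul_tmul, mul_one]
        | zero => rw [mul_zero]; exact zero_mem _
        | add u v _ _ hu hv => rw [mul_add]; exact add_mem hu hv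
        | smul c u _ hu => rw [mul_smul_comm]; exact Submodule.smul_mem _ _ hu
      | zero => rw [zero_mul]; exact zero_mem _
      | add u v _ _ hu hv => rw [add_mul]; exact add_mem hu hv
      | smul c u _ hu => rw [smul_mul_assoc]; exact Submodule.smul_mem _ _ hu
  refine ⟨⟨G, ?_⟩⟩
  rw [← Algebra.toSubmodule_eq_top]
  refine eq_top_of_baseChange hsq _ (fun l => ?_) (eq_top_iff.mpr fun y _ => key A' sA hsA Finset.subset_union_right y)
  have h : ∀ y ∈ Submodule.span B ((fun d : D' => ((1 : B) ⊗ₜ[B'] d : B ⊗[B'] D')) '' (E : Set D')),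
      ∃ n ∈ E, (1 : B) ⊗ₜ[B'] n = y := by
    intro y hy
    induction hy using Submodule.span_induction with
    | mem z hz => exact hz
    | zero => exact ⟨0, zero_mem _, by simp⟩
    | add a b _ _ ha hb =>
      obtain ⟨u, hu, rfl⟩ := ha; obtain ⟨v, hv, rfl⟩ := hb
      exact ⟨u + v, add_mem hu hv, by rw [TensorProduct.tmul_add]⟩
    | smul c a _ ha =>
      obtain ⟨u, hu, rfl⟩ := ha
      obtain ⟨c', rfl⟩ := surjective_fst hsq c
      exact ⟨c' • u, Subalgebra.smul_mem _ hu _, by rw [TensorProduct.tmul_smul, algebraMap_smul]⟩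
  obtain ⟨n, hn, e⟩ := h _ (key B sB hsB Finset.subset_union_left ((1 : B) ⊗ₜ[B'] l))
  exact ⟨n, hn, by rw [TensorProduct.tmul_sub, e, sub_self]⟩

/-- Flat finite presentation descends along a Milnor square. -/
lemma finitePresentation_algebra_of_baseChange [Module.Flat B' D']
    [Algebra.FinitePresentation B (B ⊗[B'] D')] [Algebra.FinitePresentation A' (A' ⊗[B'] D')] :
    Algebra.FinitePresentation B' D' := by
  classical
  haveI := finiteType_of_baseChange hsq (D' := D')
  obtain ⟨n, π, hπ⟩ := (Algebra.FiniteType.iff_quotient_mvPolynomial'').mp (inferInstance : Algebra.FiniteType B' D')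
  obtain ⟨s, hs, hsB⟩ := exists_finset_ker_baseChange (S := B) π hπ
  obtain ⟨t, ht, htA⟩ := exists_finset_ker_baseChange (S := A') π hπ
  let I : Ideal (MvPolynomial (Fin n) B') := Ideal.span ((s ∪ t : Finset _) : Set _)
  have hI : I ≤ RingHom.ker π := Ideal.span_le.mpr (by
    rw [Finset.coe_union]; exact Set.union_subset hs ht)
  have mono : ∀ {S : Type u} [CommRing S] [Algebra B' S] {u : Finset (MvPolynomial (Fin n) B')}, u ⊆ s ∪ t →
      LinearMap.range (((Ideal.span (u : Set _)).restrictScalars B').subtype.lTensor S) ≤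
        LinearMap.range ((I.restrictScalars B').subtype.lTensor S) := by
    intro S _ _ u hu
    have hle : (Ideal.span (u : Set (MvPolynomial (Fin n) B'))).restrictScalars B' ≤ I.restrictScalars B' :=
      fun x hx => Ideal.span_mono (Finset.coe_subset.mpr hu) hx
    rw [← Submodule.subtype_comp_inclusion _ _ hle, LinearMap.lTensor_comp]
    exact LinearMap.range_comp_le_range _ _
  have h := ker_eq_of_baseChange hsq π.toLinearMap hπ (I.restrictScalars B') hI
    (hsB.trans (mono Finset.subset_union_left)) (htA.trans (mono Finset.subset_union_right))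
  refine Algebra.FinitePresentation.of_surjective hπ ⟨s ∪ t, le_antisymm hI fun x hx => ?_⟩
  exact (SetLike.ext_iff.1 h x).mp hx

/-- Every residue field of `B'` is one of `B` or of `A'`. -/
lemma formallySmooth_fiber [Algebra.FormallySmooth B (B ⊗[B'] D')] [Algebra.FormallySmooth A' (A' ⊗[B'] D')]
    (I : Ideal B') [I.IsPrime] : Algebra.FormallySmooth I.ResidueField (I.Fiber D') := by
  suffices h : ∀ (S : Type u) [CommRing S] [Algebra B' S] [Algebra.FormallySmooth S (S ⊗[B'] D')]
      (l : Type u) [Field l] [Algebra S l] [Algebra B' l] [IsScalarTower B' S l]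
      (e : I.ResidueField →ₐ[B'] l), Function.Surjective e →
      Algebra.FormallySmooth I.ResidueField (I.Fiber D') by
    by_cases hJ : RingHom.ker (algebraMap B' B) ≤ I
    · haveI hQp : (I.map (algebraMap B' B)).IsPrime := Ideal.map_isPrime_of_surjective (surjective_fst hsq) hJ
      let Q := I.map (algebraMap B' B)
      have hQ : I = Q.comap (algebraMap B' B) := by
        rw [Ideal.comap_map_of_surjective' _ (surjective_fst hsq)]; exact (sup_eq_left.mpr hJ).symm
      refine h B Q.ResidueField (Ideal.ResidueField.mapₐ I Q (Algebra.ofId B' B) hQ) fun x => ?_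
      obtain ⟨a, b, hb, rfl⟩ := IsFractionRing.div_surjective (B ⧸ Q) x
      obtain ⟨a, rfl⟩ := Ideal.Quotient.mk_surjective a
      obtain ⟨b, rfl⟩ := Ideal.Quotient.mk_surjective b
      obtain ⟨a, rfl⟩ := surjective_fst hsq a
      obtain ⟨b, rfl⟩ := surjective_fst hsq b
      refine ⟨algebraMap B' I.ResidueField a / algebraMap B' I.ResidueField b, ?_⟩
      rw [map_div₀, AlgHom.commutes, AlgHom.commutes, IsScalarTower.algebraMap_apply B' B Q.ResidueField,
        IsScalarTower.algebraMap_apply B' B Q.ResidueField]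
      rfl
    · obtain ⟨j, hj, hjI⟩ := SetLike.not_le_iff_exists.mp hJ
      let μ := mulLift hsq j hj
      have hμ : ∀ a b, μ a * μ b = j * μ (a * b) := fun a b => eq_of_maps_eq hsq
        (by rw [map_mul, map_mul, (mulLift_spec hsq j hj a).1, RingHom.mem_ker.mp hj, zero_mul, zero_mul])
        (by rw [map_mul, map_mul, (mulLift_spec hsq j hj a).2, (mulLift_spec hsq j hj b).2,
              (mulLift_spec hsq j hj (a * b)).2]; ring)
      let Q : Ideal A' :=
        { carrier := {a | μ a ∈ I}
          zero_mem' := by simp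
          add_mem' := fun {a b} ha hb => by
            rw [Set.mem_setOf_eq, map_add]; exact add_mem ha hb
          smul_mem' := fun c a ha => by
            have := hμ c a
            refine (Ideal.IsPrime.mem_or_mem inferInstance (?_ : j * μ (c * a) ∈ I)).resolve_left hjI
            rw [← this]; exact Ideal.mul_mem_left _ _ ha }
      haveI : Q.IsPrime := by
        refine ⟨fun hQ => hjI ?_, fun {a b} hab => ?_⟩
        · have : μ 1 ∈ I := (SetLike.ext_iff.1 hQ 1).mpr trivial
          rwa [mulLift_one hsq j hj] at this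
        · refine Ideal.IsPrime.mem_or_mem (I := I) inferInstance (x := μ a) (y := μ b) ?_
          rw [hμ a b]
          exact Ideal.mul_mem_left _ j hab
      have hQ : I = Q.comap (algebraMap B' A') := by
        ext r
        have : μ (algebraMap B' A' r) = r * j := by
          rw [Algebra.algebraMap_eq_smul_one, map_smul, mulLift_one hsq j hj, smul_eq_mul]
        change r ∈ I ↔ μ (algebraMap B' A' r) ∈ I
        rw [this]
        exact ⟨fun hr => Ideal.mul_mem_right _ _ hr, fun hr => (Ideal.IsPrime.mem_or_mem inferInstance hr).resolve_right hjI⟩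
      let e := Ideal.ResidueField.mapₐ I Q (Algebra.ofId B' A') hQ
      refine h A' Q.ResidueField e fun x => ?_
      have key : ∀ a : A', ∃ k, e k = algebraMap A' Q.ResidueField a := by
        intro a
        refine ⟨algebraMap B' I.ResidueField (μ a) / algebraMap B' I.ResidueField j, ?_⟩
        rw [map_div₀, AlgHom.commutes, AlgHom.commutes, IsScalarTower.algebraMap_apply B' A' Q.ResidueField,
          IsScalarTower.algebraMap_apply B' A' Q.ResidueField, (mulLift_spec hsq j hj a).2, map_mul,
          mul_div_assoc, div_self, mul_one]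
        rw [Ne, Ideal.algebraMap_residueField_eq_zero]
        exact fun hjQ => hjI ((SetLike.ext_iff.1 hQ j).mpr hjQ)
      obtain ⟨a, b, hb, rfl⟩ := IsFractionRing.div_surjective (A' ⧸ Q) x
      obtain ⟨a, rfl⟩ := Ideal.Quotient.mk_surjective a
      obtain ⟨b, rfl⟩ := Ideal.Quotient.mk_surjective b
      obtain ⟨k₁, h₁⟩ := key a
      obtain ⟨k₂, h₂⟩ := key b
      exact ⟨k₁ / k₂, by rw [map_div₀, h₁, h₂]; rfl⟩
  intro S _ _ _ l _ _ _ _ e he
  letI : Algebra I.ResidueField l := e.toRingHom.toAlgebra
  haveI : IsScalarTower B' I.ResidueField l := IsScalarTower.of_algebraMap_eq fun b => (e.commutes b).symm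
  let el : I.ResidueField ≃ₐ[I.ResidueField] l :=
    AlgEquiv.ofBijective (Algebra.ofId I.ResidueField l) ⟨e.toRingHom.injective, he⟩
  haveI : Algebra.FormallySmooth I.ResidueField l := Algebra.FormallySmooth.of_equiv el
  haveI : Algebra.FormallySmooth l (l ⊗[B'] D') :=
    Algebra.FormallySmooth.of_equiv (Algebra.TensorProduct.cancelBaseChange B' S l l D')
  haveI : Algebra.FormallySmooth I.ResidueField (l ⊗[B'] D') := Algebra.FormallySmooth.comp _ l _
  exact Algebra.FormallySmooth.of_equiv
    (Algebra.TensorProduct.congr el (AlgEquiv.refl : D' ≃ₐ[B'] D')).symm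

/-- Smoothness descends along a Milnor square. -/
lemma smooth_of_baseChange [Algebra.Smooth B (B ⊗[B'] D')] [Algebra.Smooth A' (A' ⊗[B'] D')] :
    Algebra.Smooth B' D' := by
  haveI := flat_of_baseChange hsq (L := D')
  haveI := finitePresentation_algebra_of_baseChange hsq (D' := D')
  exact Algebra.Smooth.of_formallySmooth_fiber fun I _ => formallySmooth_fiber hsq I

/-- Étaleness descends along a Milnor square. -/
lemma etale_of_baseChange [Algebra.Etale B (B ⊗[B'] D')] [Algebra.Etale A' (A' ⊗[B'] D')] :
    Algebra.Etale B' D' := by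
  haveI := smooth_of_baseChange hsq (D' := D')
  have key : ∀ (S : Type u) [CommRing S] [Algebra B' S] [Algebra.FormallyUnramified S (S ⊗[B'] D')]
      (x : Ω[D'⁄B']), ((1 : S) ⊗ₜ[B'] x : S ⊗[B'] Ω[D'⁄B']) = 0 := by
    intro S _ _ _ x
    letI := Algebra.TensorProduct.rightAlgebra (R := B') (A := S) (B := D')
    exact (KaehlerDifferential.tensorKaehlerEquivBase B' S D' (S ⊗[B'] D')).injective (Subsingleton.elim _ _)
  haveI : Algebra.FormallyUnramified B' D' :=
    ⟨⟨fun x y => sub_eq_zero.mp (eq_zero_of_baseChange hsq (key B) (key A') (x - y))⟩⟩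
  haveI : Algebra.FormallyEtale B' D' := Algebra.FormallyEtale.iff_formallyUnramified_and_formallySmooth.mpr ⟨inferInstance, inferInstance⟩
  exact ⟨inferInstance, inferInstance⟩

end Algebra

end Groth.Agent.EtMilLib
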