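import Groth.Agent.EtMilLib.Flat
import Mathlib.RingTheory.IsTensorProduct
import Mathlib.RingTheory.Flat.EquationalCriterion

/-! Glued modules over a (possibly weak) Milnor square. -/

universe u

open TensorProduct

namespace Groth.Agent.EtMilLib

variable {D' D C' C : Type u} [CommRing D'] [CommRing D] [CommRing C'] [CommRing C]
  [Algebra D' D] [Algebra D' C'] [Algebra D C] [Algebra C' C] [Algebra D' C]
  [IsScalarTower D' D C] [IsScalarTower D' C' C]
  {N M' : Type u} [AddCommGroup N] [Module D N] [Module D' N] [IsScalarTower D' D N]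
  [AddCommGroup M'] [Module C' M'] [Module D' M'] [IsScalarTower D' C' M']
  (φ : C ⊗[D] N ≃ₗ[C] C ⊗[C'] M')

lemma mem_glue {x : N × M'} :
    x ∈ EtMil.glue D' φ ↔ φ ((1 : C) ⊗ₜ[D] x.1) = (1 : C) ⊗ₜ[C'] x.2 := Iff.rfl

variable (hC : Function.Surjective (algebraMap C' C))

include hC

lemma glueFst_surjective : Function.Surjective (EtMil.glueFst D' φ) := by
  intro n
  obtain ⟨m, hm⟩ := tmul_surjective hC (φ ((1 : C) ⊗ₜ[D] n))
  exact ⟨⟨(n, m), hm.symm⟩, rfl⟩

lemma span_range_glueSnd :
    Submodule.span C' (Set.range (EtMil.glueSnd D' φ)) = ⊤ := by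
  set S := Submodule.span C' (Set.range (EtMil.glueSnd D' φ))
  have key : ∀ z : C ⊗[D] N, ∃ m ∈ S, (1 : C) ⊗ₜ[C'] m = φ z := by
    intro z
    induction z with
    | zero => exact ⟨0, zero_mem _, by simp⟩
    | tmul c n =>
      obtain ⟨⟨⟨n', m⟩, hnm⟩, hx⟩ := glueFst_surjective (D' := D') φ hC n
      obtain rfl : n' = n := hx
      obtain ⟨c', rfl⟩ := hC c
      refine ⟨c' • m, Submodule.smul_mem _ _ (Submodule.subset_span ⟨⟨(n', m), hnm⟩, rfl⟩), ?_⟩
      have h : (algebraMap C' C c') ⊗ₜ[D] n' = algebraMap C' C c' • ((1 : C) ⊗ₜ[D] n') := by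
        rw [TensorProduct.smul_tmul', smul_eq_mul, mul_one]
      rw [h, map_smul, show φ ((1 : C) ⊗ₜ[D] n') = _ from hnm, TensorProduct.tmul_smul,
        ← algebraMap_smul C c' ((1 : C) ⊗ₜ[C'] m)]
    | add x y hx hy =>
      obtain ⟨a, ha, e1⟩ := hx; obtain ⟨b, hb, e2⟩ := hy
      exact ⟨a + b, add_mem ha hb, by rw [TensorProduct.tmul_add, e1, e2, map_add]⟩
  refine eq_top_iff.mpr fun m _ => ?_
  obtain ⟨m', hm', h⟩ := key (φ.symm ((1 : C) ⊗ₜ[C'] m))
  rw [LinearEquiv.apply_symm_apply] at h
  have h0 : (φ ((1 : C) ⊗ₜ[D] (0 : N))) = (1 : C) ⊗ₜ[C'] (m - m') := by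
    rw [TensorProduct.tmul_zero, map_zero, TensorProduct.tmul_sub, h, sub_self]
  have := add_mem (Submodule.subset_span ⟨⟨(0, m - m'), h0⟩, rfl⟩ : m - m' ∈ S) hm'
  simpa using this

variable (hD : Function.Surjective (algebraMap D' D))
  (hker : ∀ i : C', algebraMap C' C i = 0 → ∃ j : D', algebraMap D' D j = 0 ∧ algebraMap D' C' j = i)

include hD hker

/-- Elements of the glued module killed by the first projection lie in `ker • (submodule)`, as soon as
the submodule's second projections generate. -/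
lemma mem_of_glueFst_eq_zero (G : Submodule D' (EtMil.glue D' φ))
    (hG : Submodule.span C' (EtMil.glueSnd D' φ '' (G : Set (EtMil.glue D' φ))) = ⊤)
    (x : EtMil.glue D' φ) (hx : EtMil.glueFst D' φ x = 0) :
    x ∈ RingHom.ker (algebraMap D' D) • G := by
  obtain ⟨⟨n, m⟩, hnm⟩ := x
  obtain rfl : n = 0 := hx
  have hm : ((1 : C) ⊗ₜ[C'] m : C ⊗[C'] M') = 0 := by
    rw [← show φ ((1 : C) ⊗ₜ[D] (0 : N)) = _ from hnm, TensorProduct.tmul_zero, map_zero]
  have key : ∀ m ∈ RingHom.ker (algebraMap C' C) • (⊤ : Submodule C' M'),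
      ∃ h : ((0 : N), m) ∈ EtMil.glue D' φ, (⟨_, h⟩ : EtMil.glue D' φ) ∈ RingHom.ker (algebraMap D' D) • G := by
    intro m hm
    refine Submodule.smul_induction_on hm (fun i hi m₁ _ => ?_) ?_
    · have hm₁ : m₁ ∈ Submodule.span C' (EtMil.glueSnd D' φ '' (G : Set (EtMil.glue D' φ))) :=
        hG ▸ Submodule.mem_top
      clear * - hm₁ hi hker
      induction hm₁ using Submodule.span_induction generalizing i with
      | mem y hy =>
        obtain ⟨g, hg, rfl⟩ := hy
        obtain ⟨j, hj, rfl⟩ := hker i (RingHom.mem_ker.mp hi)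
        have e : ((0 : N), algebraMap D' C' j • EtMil.glueSnd D' φ g) = ((j • g : EtMil.glue D' φ) : N × M') := by
          refine Prod.ext ?_ ?_
          · show (0 : N) = j • (g : N × M').1
            rw [← algebraMap_smul D j, hj, zero_smul]
          · show _ = j • (g : N × M').2
            rw [algebraMap_smul]; rfl
        refine ⟨e ▸ (j • g).2, ?_⟩
        convert Submodule.smul_mem_smul (RingHom.mem_ker.mpr hj) hg
      | zero =>
        simp only [smul_zero]
        exact ⟨zero_mem _, zero_mem _⟩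
      | add y z _ _ hy hz =>
        obtain ⟨h1, h1'⟩ := hy i hi; obtain ⟨h2, h2'⟩ := hz i hi
        refine ⟨by simpa [smul_add] using add_mem h1 h2, ?_⟩
        convert add_mem h1' h2' using 1
        ext <;> simp [smul_add]
      | smul c y _ hy =>
        simp only [← mul_smul]
        exact hy _ (Ideal.mul_mem_right _ _ hi)
    · rintro y z ⟨h1, h1'⟩ ⟨h2, h2'⟩
      refine ⟨by simpa using add_mem h1 h2, ?_⟩
      convert add_mem h1' h2' using 1
      ext <;> simp
  exact (key m (mem_ker_smul_top hC hm)).2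

lemma finite_glue [Module.Finite D N] [Module.Finite C' M'] : Module.Finite D' (EtMil.glue D' φ) := by
  classical
  obtain ⟨s, hs⟩ := Module.Finite.fg_top (R := D) (M := N)
  choose l hl using glueFst_surjective (D' := D') φ hC
  obtain ⟨t, hts, ht⟩ := Submodule.fg_span_iff_fg_span_finset_subset (Set.range (EtMil.glueSnd D' φ)) |>.mp
    (by rw [span_range_glueSnd (D' := D') φ hC]; exact Module.Finite.fg_top)
  choose p hp using fun y : t => hts y.2
  let G : Finset (EtMil.glue D' φ) := s.image l ∪ Finset.univ.image p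
  refine ⟨⟨G, ?_⟩⟩
  set S := Submodule.span D' (G : Set (EtMil.glue D' φ))
  have hS : Submodule.span C' (EtMil.glueSnd D' φ '' (S : Set (EtMil.glue D' φ))) = ⊤ := by
    rw [eq_top_iff, ← span_range_glueSnd (D' := D') φ hC, ht]
    refine Submodule.span_mono fun y hy => ⟨p ⟨y, hy⟩, ?_, hp _⟩
    exact Submodule.subset_span (Finset.mem_coe.mpr (Finset.mem_union_right _ (Finset.mem_image_of_mem _ (Finset.mem_univ _))))
  refine eq_top_iff.mpr fun x _ => ?_
  have hn : EtMil.glueFst D' φ x ∈ S.map (EtMil.glueFst D' φ) := by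
    have : (⊤ : Submodule D' N) ≤ S.map (EtMil.glueFst D' φ) := by
      rintro n -
      have hn : n ∈ Submodule.span D (s : Set N) := hs ▸ Submodule.mem_top
      induction hn using Submodule.span_induction with
      | mem y hy =>
        exact ⟨l y, Submodule.subset_span (Finset.mem_coe.mpr (Finset.mem_union_left _ (Finset.mem_image_of_mem _ hy))), hl y⟩
      | zero => exact zero_mem _
      | add a b _ _ ha hb => exact add_mem ha hb
      | smul c a _ ha =>
        obtain ⟨c', rfl⟩ := hD c
        rw [algebraMap_smul]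
        exact Submodule.smul_mem _ _ ha
    exact this Submodule.mem_top
  obtain ⟨g, hg, hgx⟩ := hn
  have := mem_of_glueFst_eq_zero φ hC hD hker S hS (x - g) (by rw [map_sub, hgx, sub_self])
  simpa using add_mem (Submodule.smul_le_right this) hg

end Groth.Agent.EtMilLib

namespace Groth.Agent.EtMilLib

variable {B' B A' A : Type u} [CommRing B'] [CommRing B] [CommRing A'] [CommRing A]
  [Algebra B' B] [Algebra B' A'] [Algebra B A] [Algebra A' A] [Algebra B' A]
  [IsScalarTower B' B A] [IsScalarTower B' A' A]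
  (hsq : EtMil.IsFibreSquare B' B A' A)
  {N M' : Type u} [AddCommGroup N] [Module B N] [Module B' N] [IsScalarTower B' B N]
  [AddCommGroup M'] [Module A' M'] [Module B' M'] [IsScalarTower B' A' M']
  (φ : A ⊗[B] N ≃ₗ[A] A ⊗[A'] M')

include hsq

lemma exists_lift' (i : A') (hi : algebraMap A' A i = 0) :
    ∃ j : B', algebraMap B' B j = 0 ∧ algebraMap B' A' j = i :=
  (exists_lift hsq hi).exists

lemma liftBaseChange_glueFst_bijective :
    Function.Bijective (LinearMap.liftBaseChange B (EtMil.glueFst B' φ)) := by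
  constructor
  · rw [injective_iff_map_eq_zero]
    intro x hx
    obtain ⟨g, rfl⟩ := tmul_surjective (surjective_fst hsq) x
    rw [LinearMap.liftBaseChange_tmul, one_smul] at hx
    refine one_tmul_eq_zero_of_mem ?_
    refine mem_of_glueFst_eq_zero φ hsq.1 (surjective_fst hsq) (exists_lift' hsq) ⊤ ?_ g hx
    rw [Submodule.top_coe, Set.image_univ, span_range_glueSnd (D' := B') φ hsq.1]
  · intro n
    obtain ⟨g, rfl⟩ := glueFst_surjective (D' := B') φ hsq.1 n
    exact ⟨1 ⊗ₜ g, by rw [LinearMap.liftBaseChange_tmul, one_smul]⟩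

lemma liftBaseChange_glueSnd_bijective :
    Function.Bijective (LinearMap.liftBaseChange A' (EtMil.glueSnd B' φ)) := by
  constructor
  · rw [injective_iff_map_eq_zero]
    intro ξ hξ
    let e₁ := LinearEquiv.ofBijective _ (liftBaseChange_glueFst_bijective hsq φ)
    let e : A ⊗[B'] EtMil.glue B' φ ≃ₗ[A] A ⊗[A'] M' :=
      (TensorProduct.AlgebraTensorModule.cancelBaseChange B' B A A (EtMil.glue B' φ)).symm ≪≫ₗ
        TensorProduct.AlgebraTensorModule.congr (LinearEquiv.refl A A) e₁ ≪≫ₗ φ
    have he : ∀ (a : A) (g : EtMil.glue B' φ), e (a ⊗ₜ g) = a • ((1 : A) ⊗ₜ[A'] (g : N × M').2) := by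
      intro a g
      have hg : φ ((1 : A) ⊗ₜ[B] (g : N × M').1) = (1 : A) ⊗ₜ[A'] (g : N × M').2 := g.2
      have h1 : e (a ⊗ₜ g) = φ (a ⊗ₜ[B] (g : N × M').1) := by
        simp [e, e₁, EtMil.glueFst]
      rw [h1, ← hg, ← map_smul, TensorProduct.smul_tmul', smul_eq_mul, mul_one]
    have key : ∀ ζ : A' ⊗[B'] EtMil.glue B' φ,
        e ((IsScalarTower.toAlgHom B' A' A).toLinearMap.rTensor _ ζ) =
          (1 : A) ⊗ₜ[A'] LinearMap.liftBaseChange A' (EtMil.glueSnd B' φ) ζ := by
      intro ζ
      induction ζ with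
      | zero => simp
      | tmul a g =>
        rw [LinearMap.rTensor_tmul, he, LinearMap.liftBaseChange_tmul, TensorProduct.tmul_smul,
          ← algebraMap_smul A a ((1 : A) ⊗ₜ[A'] _)]
        rfl
      | add x y hx hy => simp only [map_add, TensorProduct.tmul_add, hx, hy]
    obtain ⟨g, hg, rfl⟩ := exists_of_rTensor_eq_zero hsq (y := ξ) (e.injective (by
      rw [key, hξ, TensorProduct.tmul_zero, map_zero]))
    rw [LinearMap.liftBaseChange_tmul, one_smul] at hξ
    have h1 : EtMil.glueFst B' φ g = 0 := by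
      refine Submodule.smul_induction_on (p := fun g => EtMil.glueFst B' φ g = 0) hg (fun j hj x _ => ?_)
        (fun x y hx hy => by rw [map_add, hx, hy, add_zero])
      rw [map_smul, ← algebraMap_smul B j, RingHom.mem_ker.mp hj, zero_smul]
    rw [show g = 0 from Subtype.ext (Prod.ext h1 hξ), TensorProduct.tmul_zero]
  · intro m
    have hm : m ∈ Submodule.span A' (Set.range (EtMil.glueSnd B' φ)) :=
      span_range_glueSnd (D' := B') φ hsq.1 ▸ Submodule.mem_top
    induction hm using Submodule.span_induction with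
    | mem y hy =>
      obtain ⟨g, rfl⟩ := hy
      exact ⟨1 ⊗ₜ g, by rw [LinearMap.liftBaseChange_tmul, one_smul]⟩
    | zero => exact ⟨0, map_zero _⟩
    | add a b _ _ ha hb =>
      obtain ⟨x, rfl⟩ := ha; obtain ⟨y, rfl⟩ := hb
      exact ⟨x + y, map_add _ _ _⟩
    | smul c a _ ha =>
      obtain ⟨x, rfl⟩ := ha
      exact ⟨c • x, map_smul _ _ _⟩

lemma flat_glue [Module.Flat B N] [Module.Flat A' M'] : Module.Flat B' (EtMil.glue B' φ) := by
  have := Module.Flat.of_linearEquiv (LinearEquiv.ofBijective _ (liftBaseChange_glueFst_bijective hsq φ))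
  have := Module.Flat.of_linearEquiv (LinearEquiv.ofBijective _ (liftBaseChange_glueSnd_bijective hsq φ))
  exact flat_of_baseChange hsq

lemma finite_projective_glue [Module.Finite B N] [Module.Projective B N]
    [Module.Finite A' M'] [Module.Projective A' M'] :
    Module.Finite B' (EtMil.glue B' φ) ∧ Module.Projective B' (EtMil.glue B' φ) := by
  let e1 := LinearEquiv.ofBijective _ (liftBaseChange_glueFst_bijective hsq φ)
  let e2 := LinearEquiv.ofBijective _ (liftBaseChange_glueSnd_bijective hsq φ)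
  have := Module.Flat.of_linearEquiv e1
  have := Module.Flat.of_linearEquiv e2
  have : Module.FinitePresentation B N := Module.finitePresentation_of_projective B N
  have : Module.FinitePresentation A' M' := Module.finitePresentation_of_projective A' M'
  have := Module.FinitePresentation.of_equiv e1.symm
  have := Module.FinitePresentation.of_equiv e2.symm
  have := flat_of_baseChange hsq (L := EtMil.glue B' φ)
  have := finitePresentation_of_baseChange hsq (L := EtMil.glue B' φ)
  exact ⟨inferInstance, Module.Flat.projective_of_finitePresentation⟩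

end Groth.Agent.EtMilLib
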