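import Groth.Prelude.Def_EtMil
import Mathlib.RingTheory.Finiteness.Cardinality
import Mathlib.RingTheory.Flat.Basic
import Mathlib.LinearAlgebra.TensorProduct.RightExactness
import Mathlib.Tactic

/-! Milnor squares: modules over a fibre product of rings. -/

universe u

open TensorProduct

namespace Groth.Agent.EtMilLib

variable {B' B A' A : Type u} [CommRing B'] [CommRing B] [CommRing A'] [CommRing A]
  [Algebra B' B] [Algebra B' A'] [Algebra B A] [Algebra A' A] [Algebra B' A]
  [IsScalarTower B' B A] [IsScalarTower B' A' A]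
  (hsq : EtMil.IsFibreSquare B' B A' A)

include hsq

lemma surjective_fst : Function.Surjective (algebraMap B' B) := by
  intro b
  obtain ⟨a', ha'⟩ := hsq.1 (algebraMap B A b)
  obtain ⟨b', ⟨h, -⟩, -⟩ := hsq.2 b a' ha'.symm
  exact ⟨b', h⟩

lemma eq_of_maps_eq {x y : B'} (h1 : algebraMap B' B x = algebraMap B' B y)
    (h2 : algebraMap B' A' x = algebraMap B' A' y) : x = y := by
  obtain ⟨z, -, hz⟩ := hsq.2 (algebraMap B' B x) (algebraMap B' A' x) (by
    rw [← IsScalarTower.algebraMap_apply, ← IsScalarTower.algebraMap_apply])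
  rw [hz x ⟨rfl, rfl⟩, hz y ⟨h1.symm, h2.symm⟩]

/-- An element of `ker (A' → A)` comes from a unique element of `ker (B' → B)`. -/
lemma exists_lift {i : A'} (hi : algebraMap A' A i = 0) :
    ∃! j : B', algebraMap B' B j = 0 ∧ algebraMap B' A' j = i :=
  hsq.2 0 i (by rw [map_zero, hi])

omit hsq in
lemma algebraMap_mul_eq_zero {j : B'} (hj : algebraMap B' B j = 0) (a : A') :
    algebraMap A' A (a * algebraMap B' A' j) = 0 := by
  rw [map_mul, ← IsScalarTower.algebraMap_apply B' A' A, IsScalarTower.algebraMap_apply B' B A j,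
    hj, map_zero, mul_zero]

/-- The element of `ker (B' → B)` over an element of `ker (A' → A)`. -/
noncomputable def kerLift' (j : B') (hj : algebraMap B' B j = 0) (a : A') : B' :=
  Classical.choose (exists_lift hsq (algebraMap_mul_eq_zero (A := A) hj a))

lemma kerLift'_spec (j : B') (hj : algebraMap B' B j = 0) (a : A') :
    algebraMap B' B (kerLift' hsq j hj a) = 0 ∧
      algebraMap B' A' (kerLift' hsq j hj a) = a * algebraMap B' A' j :=
  (Classical.choose_spec (exists_lift hsq (algebraMap_mul_eq_zero (A := A) hj a))).1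

/-- For `j ∈ ker (B' → B)`, the map `A' → B'` sending `a` to the element of the kernel over `a j`. -/
noncomputable def mulLift (j : B') (hj : algebraMap B' B j = 0) : A' →ₗ[B'] B' where
  toFun a := kerLift' hsq j hj a
  map_add' a b := eq_of_maps_eq hsq (by simp [kerLift'_spec hsq j hj]) (by
    simp [kerLift'_spec hsq j hj, add_mul])
  map_smul' r a := eq_of_maps_eq hsq (by simp [kerLift'_spec hsq j hj]) (by
    simp [kerLift'_spec hsq j hj, Algebra.smul_def, mul_assoc])

lemma mulLift_spec (j : B') (hj : algebraMap B' B j = 0) (a : A') :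
    algebraMap B' B (mulLift hsq j hj a) = 0 ∧
      algebraMap B' A' (mulLift hsq j hj a) = a * algebraMap B' A' j :=
  kerLift'_spec hsq j hj a

lemma mulLift_one (j : B') (hj : algebraMap B' B j = 0) : mulLift hsq j hj 1 = j :=
  eq_of_maps_eq hsq ((mulLift_spec hsq j hj 1).1.trans hj.symm)
    ((mulLift_spec hsq j hj 1).2.trans (one_mul _))

variable {L : Type u} [AddCommGroup L] [Module B' L]

/-- An element dying in `A' ⊗ L` is killed by `ker (B' → B)`. -/
lemma smul_eq_zero_of_snd_eq_zero {l : L} (h : ((1 : A') ⊗ₜ[B'] l : A' ⊗[B'] L) = 0)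
    {j : B'} (hj : algebraMap B' B j = 0) : j • l = 0 := by
  have := congrArg ((TensorProduct.lid B' L).toLinearMap ∘ₗ (mulLift hsq j hj).rTensor L) h
  simpa [mulLift_one hsq j hj] using this

omit hsq in
/-- For a surjection `R → S`, the map `M → S ⊗ M` has kernel `ker • M`. -/
lemma mem_ker_smul_top {R S : Type u} [CommRing R] [CommRing S] [Algebra R S]
    (hs : Function.Surjective (algebraMap R S)) {M : Type u} [AddCommGroup M] [Module R M] {m : M}
    (h : ((1 : S) ⊗ₜ[R] m : S ⊗[R] M) = 0) :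
    m ∈ RingHom.ker (algebraMap R S) • (⊤ : Submodule R M) := by
  let e : (R ⧸ RingHom.ker (algebraMap R S)) ≃ₗ[R] S :=
    LinearEquiv.ofBijective
      { toFun := RingHom.kerLift (algebraMap R S)
        map_add' := map_add _
        map_smul' := fun r x => by
          obtain ⟨x, rfl⟩ := Ideal.Quotient.mk_surjective x
          rw [RingHom.id_apply, Algebra.smul_def, Algebra.smul_def, map_mul]
          rfl }
      ⟨RingHom.kerLift_injective _, fun s => (hs s).elim fun r hr => ⟨Ideal.Quotient.mk _ r, hr⟩⟩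
  have := congrArg ((TensorProduct.quotTensorEquivQuotSMul M (RingHom.ker (algebraMap R S))).toLinearMap
    ∘ₗ (e.symm.toLinearMap.rTensor M)) h
  have he : e.symm 1 = Ideal.Quotient.mk _ (1 : R) := by
    rw [LinearEquiv.symm_apply_eq]; exact (map_one (algebraMap R S)).symm
  rw [map_zero, LinearMap.comp_apply, LinearMap.rTensor_tmul, LinearEquiv.coe_coe, LinearEquiv.coe_coe, he, TensorProduct.quotTensorEquivQuotSMul_mk_tmul, one_smul] at this
  exact (Submodule.Quotient.mk_eq_zero _).mp this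

omit hsq in
lemma one_tmul_eq_zero_of_mem {R S : Type u} [CommRing R] [CommRing S] [Algebra R S]
    {M : Type u} [AddCommGroup M] [Module R M] {m : M}
    (h : m ∈ RingHom.ker (algebraMap R S) • (⊤ : Submodule R M)) :
    ((1 : S) ⊗ₜ[R] m : S ⊗[R] M) = 0 := by
  refine Submodule.smul_induction_on h (fun j hj x _ => ?_) (fun x y hx hy => by
    rw [TensorProduct.tmul_add, hx, hy, add_zero])
  rw [← TensorProduct.smul_tmul, Algebra.smul_def, RingHom.mem_ker.mp hj, zero_mul, TensorProduct.zero_tmul]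

omit hsq in
lemma tmul_surjective {R S : Type u} [CommRing R] [CommRing S] [Algebra R S]
    (hs : Function.Surjective (algebraMap R S)) {M : Type u} [AddCommGroup M] [Module R M]
    (x : S ⊗[R] M) : ∃ m : M, (1 : S) ⊗ₜ[R] m = x :=
  TensorProduct.mk_surjective R M S hs x

lemma mem_ker_smul_top_of_fst {l : L} (h : ((1 : B) ⊗ₜ[B'] l : B ⊗[B'] L) = 0) :
    l ∈ RingHom.ker (algebraMap B' B) • (⊤ : Submodule B' L) :=
  mem_ker_smul_top (surjective_fst hsq) h

/-- The image of `I ⊗ L` in `A' ⊗ L` consists of `1 ⊗ l` with `l ∈ J L`. -/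
lemma exists_of_rTensor_eq_zero {y : A' ⊗[B'] L}
    (hy : (IsScalarTower.toAlgHom B' A' A).toLinearMap.rTensor L y = 0) :
    ∃ l ∈ RingHom.ker (algebraMap B' B) • (⊤ : Submodule B' L), (1 : A') ⊗ₜ[B'] l = y := by
  set f := (IsScalarTower.toAlgHom B' A' A).toLinearMap with hf
  have hex : Function.Exact (LinearMap.ker f).subtype f := LinearMap.exact_subtype_ker_map f
  obtain ⟨ξ, rfl⟩ := (rTensor_exact L hex hsq.1 y).mp hy
  induction ξ with
  | zero => exact ⟨0, zero_mem _, by simp⟩
  | tmul i l =>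
    obtain ⟨j, ⟨hj, hj'⟩, -⟩ := exists_lift hsq (i := (i : A')) i.2
    refine ⟨j • l, Submodule.smul_mem_smul hj Submodule.mem_top, ?_⟩
    rw [LinearMap.rTensor_tmul, Submodule.coe_subtype, ← hj', ← TensorProduct.smul_tmul, Algebra.smul_def, mul_one]
  | add x z hx hz =>
    obtain ⟨a, ha, e1⟩ := hx (by
      have := (rTensor_exact L hex hsq.1 ((LinearMap.ker f).subtype.rTensor L x)).mpr ⟨x, rfl⟩
      exact this)
    obtain ⟨b, hb, e2⟩ := hz (by
      have := (rTensor_exact L hex hsq.1 ((LinearMap.ker f).subtype.rTensor L z)).mpr ⟨z, rfl⟩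
      exact this)
    exact ⟨a + b, add_mem ha hb, by rw [TensorProduct.tmul_add, e1, e2, map_add]⟩

/-- `L → (B ⊗ L) ×_{A ⊗ L} (A' ⊗ L)` is surjective. -/
lemma exists_of_compatible (x : B ⊗[B'] L) (y : A' ⊗[B'] L)
    (hxy : (IsScalarTower.toAlgHom B' B A).toLinearMap.rTensor L x =
      (IsScalarTower.toAlgHom B' A' A).toLinearMap.rTensor L y) :
    ∃ l : L, (1 : B) ⊗ₜ[B'] l = x ∧ (1 : A') ⊗ₜ[B'] l = y := by
  obtain ⟨l₀, rfl⟩ := tmul_surjective (surjective_fst hsq) x
  obtain ⟨l₁, hl₁, h⟩ := exists_of_rTensor_eq_zero hsq (y := y - (1 : A') ⊗ₜ[B'] l₀) (by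
    rw [map_sub, ← hxy]; simp)
  refine ⟨l₀ + l₁, ?_, ?_⟩
  · rw [TensorProduct.tmul_add, one_tmul_eq_zero_of_mem hl₁, add_zero]
  · rw [TensorProduct.tmul_add, h, add_sub_cancel]

/-- A submodule surjecting onto both base changes is everything. -/
lemma eq_top_of_baseChange (N : Submodule B' L)
    (hB : ∀ l : L, ∃ n ∈ N, ((1 : B) ⊗ₜ[B'] (l - n) : B ⊗[B'] L) = 0)
    (hA : Submodule.span A' ((fun n : L => ((1 : A') ⊗ₜ[B'] n : A' ⊗[B'] L)) '' (N : Set L)) = ⊤) :
    N = ⊤ := by
  have hJ : RingHom.ker (algebraMap B' B) • (⊤ : Submodule B' L) ≤ N := by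
    refine Submodule.smul_le.mpr fun j hj l _ => ?_
    let g := (TensorProduct.lid B' L).toLinearMap ∘ₗ (mulLift hsq j hj).rTensor L
    have key : ∀ y ∈ Submodule.span A' ((fun n : L => ((1 : A') ⊗ₜ[B'] n : A' ⊗[B'] L)) '' (N : Set L)),
        ∀ a : A', g (a • y) ∈ N := by
      intro y hy
      induction hy using Submodule.span_induction with
      | mem y hy =>
        obtain ⟨n, hn, rfl⟩ := hy
        intro a
        simpa [g, TensorProduct.smul_tmul'] using N.smul_mem (mulLift hsq j hj a) hn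
      | zero => simp
      | add x y _ _ hx hy => intro a; rw [smul_add, map_add]; exact add_mem (hx a) (hy a)
      | smul c y _ hy => intro a; rw [← mul_smul]; exact hy _
    have := key ((1 : A') ⊗ₜ[B'] l) (hA ▸ Submodule.mem_top) 1
    simpa [g, mulLift_one hsq j hj] using this
  refine eq_top_iff.mpr fun l _ => ?_
  obtain ⟨n, hn, h⟩ := hB l
  simpa using add_mem (hJ (mem_ker_smul_top_of_fst hsq h)) hn

/-- Finiteness descends along a Milnor square. -/
lemma finite_of_baseChange [Module.Finite B (B ⊗[B'] L)] [Module.Finite A' (A' ⊗[B'] L)] :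
    Module.Finite B' L := by
  classical
  obtain ⟨s, hs⟩ := Module.Finite.fg_top (R := B) (M := B ⊗[B'] L)
  choose l hl using fun x : B ⊗[B'] L => tmul_surjective (surjective_fst hsq) x
  obtain ⟨t, ht⟩ := Module.Finite.fg_top (R := A') (M := A' ⊗[B'] L)
  have hspan : ∀ y : A' ⊗[B'] L, ∃ T : Finset L,
      y ∈ Submodule.span A' ((fun n : L => ((1 : A') ⊗ₜ[B'] n : A' ⊗[B'] L)) '' (T : Set L)) := by
    intro y
    induction y with
    | zero => exact ⟨∅, zero_mem _⟩
    | tmul a m =>
      refine ⟨{m}, ?_⟩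
      have : (a ⊗ₜ[B'] m : A' ⊗[B'] L) = a • ((1 : A') ⊗ₜ[B'] m) := by
        rw [TensorProduct.smul_tmul', smul_eq_mul, mul_one]
      rw [this]
      exact Submodule.smul_mem _ _ (Submodule.subset_span ⟨m, by simp, rfl⟩)
    | add x y hx hy =>
      obtain ⟨T, hT⟩ := hx; obtain ⟨U, hU⟩ := hy
      exact ⟨T ∪ U, add_mem (Submodule.span_mono (Set.image_mono (by simp)) hT)
        (Submodule.span_mono (Set.image_mono (by simp)) hU)⟩
  choose T hT using hspan
  let G : Finset L := s.image l ∪ t.biUnion T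
  refine ⟨⟨G, eq_top_of_baseChange hsq _ (fun m => ?_) ?_⟩⟩
  · have hm : ∀ x ∈ Submodule.span B (s : Set (B ⊗[B'] L)),
        ∃ n ∈ Submodule.span B' (G : Set L), (1 : B) ⊗ₜ[B'] n = x := by
      intro x hx
      induction hx using Submodule.span_induction with
      | mem x hx =>
        exact ⟨l x, Submodule.subset_span (Finset.mem_coe.mpr (Finset.mem_union_left _ (Finset.mem_image_of_mem _ hx))), hl x⟩
      | zero => exact ⟨0, zero_mem _, by simp⟩
      | add x y _ _ hx hy =>
        obtain ⟨a, ha, e1⟩ := hx; obtain ⟨b, hb, e2⟩ := hy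
        exact ⟨a + b, add_mem ha hb, by rw [TensorProduct.tmul_add, e1, e2]⟩
      | smul c x _ hx =>
        obtain ⟨a, ha, e1⟩ := hx
        obtain ⟨c', rfl⟩ := surjective_fst hsq c
        exact ⟨c' • a, Submodule.smul_mem _ _ ha, by rw [TensorProduct.tmul_smul, e1, algebraMap_smul]⟩
    obtain ⟨n, hn, e⟩ := hm ((1 : B) ⊗ₜ[B'] m) (hs ▸ Submodule.mem_top)
    exact ⟨n, hn, by rw [TensorProduct.tmul_sub, e, sub_self]⟩
  · rw [eq_top_iff, ← ht, Submodule.span_le]
    intro y hy
    refine Submodule.span_mono (Set.image_mono fun n hn => ?_) (hT y)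
    exact Submodule.subset_span (Finset.mem_coe.mpr (Finset.mem_union_right _ (Finset.mem_biUnion.mpr ⟨y, hy, hn⟩)))

end Groth.Agent.EtMilLib
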