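import Groth.Agent.EtMilLib.Basic
import Mathlib.RingTheory.Flat.Tensor
import Mathlib.RingTheory.Flat.Stability
import Mathlib.RingTheory.Flat.Equalizer
import Mathlib.Algebra.Module.FinitePresentation

/-! Milnor squares: descent of flatness and finite presentation. -/

universe u

open TensorProduct

namespace Groth.Agent.EtMilLib

section General

variable {R S : Type u} [CommRing R] [CommRing S] [Algebra R S]
  {M : Type u} [AddCommGroup M] [Module R M]

/-- If `S ⊗ M` is flat over `S`, tensoring with `M` over `R` keeps `S`-linear injections injective. -/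
lemma rTensor_injective_of_flat_baseChange [Module.Flat S (S ⊗[R] M)]
    {P Q : Type u} [AddCommGroup P] [AddCommGroup Q] [Module S P] [Module S Q] [Module R P] [Module R Q]
    [IsScalarTower R S P] [IsScalarTower R S Q] (f : P →ₗ[S] Q) (hf : Function.Injective f) :
    Function.Injective ((f.restrictScalars R).rTensor M) := by
  let eP := TensorProduct.AlgebraTensorModule.cancelBaseChange R S S P M
  let eQ := TensorProduct.AlgebraTensorModule.cancelBaseChange R S S Q M
  have h : ∀ x : P ⊗[S] (S ⊗[R] M),
      (f.restrictScalars R).rTensor M (eP x) = eQ (f.rTensor (S ⊗[R] M) x) := by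
    intro x
    induction x with
    | zero => simp
    | tmul p z =>
      induction z with
      | zero => simp
      | tmul s m => simp [eP, eQ]
      | add a b ha hb => simp only [TensorProduct.tmul_add, map_add, ha, hb]
    | add a b ha hb => simp only [map_add, ha, hb]
  intro x y hxy
  obtain ⟨x, rfl⟩ := eP.surjective x
  obtain ⟨y, rfl⟩ := eP.surjective y
  rw [h, h] at hxy
  exact congrArg eP (Module.Flat.rTensor_preserves_injective_linearMap f hf (eQ.injective hxy))

/-- The same for modules killed by the kernel of a surjection `R → S`. -/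
lemma rTensor_injective_of_flat_baseChange_of_smul_eq_zero (hs : Function.Surjective (algebraMap R S))
    [Module.Flat S (S ⊗[R] M)] {P Q : Type u} [AddCommGroup P] [AddCommGroup Q] [Module R P] [Module R Q]
    (hP : ∀ r, algebraMap R S r = 0 → ∀ p : P, r • p = 0)
    (hQ : ∀ r, algebraMap R S r = 0 → ∀ q : Q, r • q = 0)
    (f : P →ₗ[R] Q) (hf : Function.Injective f) :
    Function.Injective (f.rTensor M) := by
  let ψP : S →+* AddMonoid.End P := (algebraMap R S).liftOfSurjective hs
    ⟨Module.toAddMonoidEnd R P, fun r hr => RingHom.mem_ker.mpr (AddMonoidHom.ext fun p =>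
      hP r (RingHom.mem_ker.mp hr) p)⟩
  let ψQ : S →+* AddMonoid.End Q := (algebraMap R S).liftOfSurjective hs
    ⟨Module.toAddMonoidEnd R Q, fun r hr => RingHom.mem_ker.mpr (AddMonoidHom.ext fun p =>
      hQ r (RingHom.mem_ker.mp hr) p)⟩
  letI : Module S P := Module.compHom P ψP
  letI : Module S Q := Module.compHom Q ψQ
  have hlP : ∀ (r : R) (p : P), algebraMap R S r • p = r • p := fun r p => by
    show ψP (algebraMap R S r) p = r • p
    simp only [ψP, RingHom.liftOfSurjective]
    rw [RingHom.liftOfRightInverse_comp_apply]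
    rfl
  have hlQ : ∀ (r : R) (p : Q), algebraMap R S r • p = r • p := fun r p => by
    show ψQ (algebraMap R S r) p = r • p
    simp only [ψQ, RingHom.liftOfSurjective]
    rw [RingHom.liftOfRightInverse_comp_apply]
    rfl
  haveI : IsScalarTower R S P := IsScalarTower.of_algebraMap_smul hlP
  haveI : IsScalarTower R S Q := IsScalarTower.of_algebraMap_smul hlQ
  let f' : P →ₗ[S] Q :=
    { toFun := f
      map_add' := map_add f
      map_smul' := fun s p => by
        obtain ⟨r, rfl⟩ := hs s
        rw [RingHom.id_apply, hlP, hlQ, map_smul] }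
  exact rTensor_injective_of_flat_baseChange (R := R) f' hf

end General

variable {B' B A' A : Type u} [CommRing B'] [CommRing B] [CommRing A'] [CommRing A]
  [Algebra B' B] [Algebra B' A'] [Algebra B A] [Algebra A' A] [Algebra B' A]
  [IsScalarTower B' B A] [IsScalarTower B' A' A]
  (hsq : EtMil.IsFibreSquare B' B A' A)
  {L : Type u} [AddCommGroup L] [Module B' L]

include hsq

/-- The key step: small submodules of the kernel stay embedded after tensoring. -/
lemma rTensor_injective_of_submodule_ker [Module.Flat B (B ⊗[B'] L)] [Module.Flat A' (A' ⊗[B'] L)]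
    (X : Submodule B' A') (hX : ∀ x ∈ X, algebraMap A' A x = 0) :
    Function.Injective (X.subtype.rTensor L) := by
  set I := RingHom.ker (algebraMap A' A)
  let E : Ideal A' := Ideal.span (X : Set A')
  let IX : Ideal A' := I * E
  have hIXE : IX ≤ E := Ideal.mul_le.mpr fun i _ e he => E.mul_mem_left i he
  have hmem : ∀ i ∈ I, ∀ x ∈ X, i * x ∈ X := by
    intro i hi x hx
    obtain ⟨j, ⟨-, hj⟩, -⟩ := exists_lift hsq (RingHom.mem_ker.mp hi)
    rw [← hj, ← Algebra.smul_def]
    exact X.smul_mem j hx
  have hIX : ∀ z ∈ IX, z ∈ X := by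
    intro z hz
    refine Submodule.mul_induction_on hz (fun i hi e he => ?_) (fun a b ha hb => add_mem ha hb)
    have : ∀ i ∈ I, i * e ∈ X := by
      induction he using Submodule.span_induction with
      | mem y hy => exact fun i hi => hmem i hi y hy
      | zero => simp
      | add a b _ _ ha hb => intro i hi; rw [mul_add]; exact add_mem (ha i hi) (hb i hi)
      | smul c y _ hy => intro i hi; rw [smul_eq_mul, ← mul_assoc]; exact hy _ (Ideal.mul_mem_right _ _ hi)
    exact this i hi
  let ι : X →ₗ[B'] E := X.subtype.codRestrict (E.restrictScalars B') (fun x => Ideal.subset_span x.2)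
  let q : E →ₗ[B'] (E ⧸ Submodule.comap E.subtype IX) := (Submodule.mkQ _).restrictScalars B'
  let g := q ∘ₗ ι
  have hkill : ∀ r, algebraMap B' B r = 0 → ∀ p : E ⧸ Submodule.comap E.subtype IX, r • p = 0 := by
    intro r hr p
    obtain ⟨e, rfl⟩ := Submodule.Quotient.mk_surjective _ p
    rw [← Submodule.Quotient.mk_smul, Submodule.Quotient.mk_eq_zero, Submodule.mem_comap]
    show r • (e : A') ∈ IX
    rw [Algebra.smul_def]
    refine Ideal.mul_mem_mul (RingHom.mem_ker.mpr ?_) e.2
    rw [← IsScalarTower.algebraMap_apply, IsScalarTower.algebraMap_apply B' B A, hr, map_zero]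
  rw [injective_iff_map_eq_zero]
  intro ξ hξ
  have h1 : ι.rTensor L ξ = 0 := by
    refine rTensor_injective_of_flat_baseChange (R := B') (S := A') (M := L) E.subtype Subtype.val_injective ?_
    rw [map_zero, ← LinearMap.rTensor_comp_apply]
    exact hξ
  have h2 : g.rangeRestrict.rTensor L ξ = 0 := by
    refine rTensor_injective_of_flat_baseChange_of_smul_eq_zero (R := B') (S := B) (M := L) (surjective_fst hsq)
      (fun r hr p => Subtype.ext (hkill r hr p)) hkill (LinearMap.range g).subtype Subtype.val_injective ?_
    rw [map_zero, ← LinearMap.rTensor_comp_apply]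
    show (g.rTensor L) ξ = 0
    rw [LinearMap.rTensor_comp_apply, h1, map_zero]
  obtain ⟨η, rfl⟩ := (rTensor_exact (R := B') (M := LinearMap.ker g.rangeRestrict) (N := X) (P := LinearMap.range g) L
    (LinearMap.exact_subtype_ker_map g.rangeRestrict)
    g.surjective_rangeRestrict ξ).mp h2
  let k : LinearMap.ker g.rangeRestrict →ₗ[B'] IX :=
    (X.subtype ∘ₗ (LinearMap.ker g.rangeRestrict).subtype).codRestrict (IX.restrictScalars B') (fun x => by
      have h : (Submodule.mkQ (Submodule.comap E.subtype IX)) (ι (x : X)) = 0 :=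
        congrArg Subtype.val (LinearMap.mem_ker.mp x.2)
      exact (Submodule.Quotient.mk_eq_zero (Submodule.comap E.subtype IX)).mp h)
  let k' : IX →ₗ[B'] LinearMap.ker g.rangeRestrict :=
    { toFun := fun z => ⟨⟨z, hIX z z.2⟩, LinearMap.mem_ker.mpr (Subtype.ext ((Submodule.Quotient.mk_eq_zero _).mpr z.2))⟩
      map_add' := fun _ _ => rfl
      map_smul' := fun _ _ => rfl }
  have hk : k' ∘ₗ k = LinearMap.id := LinearMap.ext fun x => rfl
  have h3 : k.rTensor L η = 0 := by
    refine rTensor_injective_of_flat_baseChange (R := B') (S := A') (M := L) IX.subtype Subtype.val_injective ?_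
    rw [map_zero, ← LinearMap.rTensor_comp_apply]
    rw [← LinearMap.rTensor_comp_apply] at hξ
    exact hξ
  have h4 : η = 0 := by
    have := congrArg (k'.rTensor L) h3
    rwa [← LinearMap.rTensor_comp_apply, hk, LinearMap.rTensor_id, map_zero, LinearMap.id_apply] at this
  rw [h4, map_zero]

/-- Flatness descends along a Milnor square. -/
lemma flat_of_baseChange [Module.Flat B (B ⊗[B'] L)] [Module.Flat A' (A' ⊗[B'] L)] :
    Module.Flat B' L := by
  rw [Module.Flat.iff_rTensor_injective']
  intro 𝔞
  rw [injective_iff_map_eq_zero]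
  intro ξ hξ
  let b : Ideal B := 𝔞.map (algebraMap B' B)
  let u : 𝔞 →ₗ[B'] b := ((Algebra.linearMap B' B) ∘ₗ 𝔞.subtype).codRestrict (b.restrictScalars B')
    (fun x => Ideal.mem_map_of_mem _ x.2)
  have hu : Function.Surjective u := by
    rintro ⟨y, hy⟩
    obtain ⟨x, hx, rfl⟩ := (Ideal.mem_map_iff_of_surjective _ (surjective_fst hsq)).mp hy
    exact ⟨⟨x, hx⟩, rfl⟩
  have h1 : u.rTensor L ξ = 0 := by
    refine rTensor_injective_of_flat_baseChange (R := B') (S := B) (M := L) b.subtype Subtype.val_injective ?_
    rw [map_zero, ← LinearMap.rTensor_comp_apply]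
    show (((Algebra.linearMap B' B) ∘ₗ 𝔞.subtype).rTensor L) ξ = 0
    rw [LinearMap.rTensor_comp_apply, hξ, map_zero]
  obtain ⟨η, rfl⟩ := (rTensor_exact L (LinearMap.exact_subtype_ker_map u) hu ξ).mp h1
  let w : LinearMap.ker u →ₗ[B'] A' :=
    Algebra.linearMap B' A' ∘ₗ 𝔞.subtype ∘ₗ (LinearMap.ker u).subtype
  have hker : ∀ x : LinearMap.ker u, algebraMap B' B ((x : 𝔞) : B') = 0 := fun x => congrArg Subtype.val x.2
  have hw : Function.Injective w := by
    intro x y hxy
    exact Subtype.ext (Subtype.ext (eq_of_maps_eq hsq ((hker x).trans (hker y).symm) hxy))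
  have h2 : w.rangeRestrict.rTensor L η = 0 := by
    refine rTensor_injective_of_submodule_ker hsq (LinearMap.range w) ?_ ?_
    · rintro _ ⟨x, rfl⟩
      show algebraMap A' A (algebraMap B' A' ((x : 𝔞) : B')) = 0
      rw [← IsScalarTower.algebraMap_apply, IsScalarTower.algebraMap_apply B' B A, hker x, map_zero]
    · rw [map_zero, ← LinearMap.rTensor_comp_apply]
      show ((Algebra.linearMap B' A' ∘ₗ (𝔞.subtype ∘ₗ (LinearMap.ker u).subtype)).rTensor L) η = 0
      rw [LinearMap.rTensor_comp_apply, LinearMap.rTensor_comp_apply, hξ, map_zero]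
  have h3 : η = 0 := by
    let e := LinearEquiv.ofBijective w.rangeRestrict
      ⟨fun x y h => hw (congrArg Subtype.val h), w.surjective_rangeRestrict⟩
    have := congrArg (e.symm.toLinearMap.rTensor L) h2
    rwa [← LinearMap.rTensor_comp_apply, show e.symm.toLinearMap ∘ₗ w.rangeRestrict = LinearMap.id from
      LinearMap.ext e.symm_apply_apply, LinearMap.rTensor_id, map_zero, LinearMap.id_apply] at this
  rw [h3, map_zero]

omit hsq in
/-- A flat finitely presented base change: finite kernels. -/
lemma finite_baseChange_ker {S : Type u} [CommRing S] [Algebra B' S] [Module.Flat B' L]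
    {n : ℕ} (π : (Fin n → B') →ₗ[B'] L) (hπ : Function.Surjective π)
    [Module.FinitePresentation S (S ⊗[B'] L)] :
    Module.Finite S (S ⊗[B'] LinearMap.ker π) := by
  have hex := lTensor_exact S (LinearMap.exact_subtype_ker_map π) hπ
  have hinj : Function.Injective ((LinearMap.ker π).subtype.baseChange S) := by
    rw [LinearMap.baseChange_eq_ltensor]
    exact LinearMap.lTensor_injective_of_exact_of_flat π hπ _ Subtype.val_injective (LinearMap.exact_subtype_ker_map π) S
  have hs : Function.Surjective (π.baseChange S) := by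
    rw [LinearMap.baseChange_eq_ltensor]
    exact LinearMap.lTensor_surjective S hπ
  have hfg : (LinearMap.ker (π.baseChange S)).FG := Module.FinitePresentation.fg_ker _ hs
  have heq : LinearMap.ker (π.baseChange S) = LinearMap.range ((LinearMap.ker π).subtype.baseChange S) := by
    apply le_antisymm
    · intro x hx
      obtain ⟨y, hy⟩ := (hex x).mp hx
      exact ⟨y, hy⟩
    · rintro _ ⟨y, rfl⟩
      exact (hex _).mpr ⟨y, rfl⟩
  rw [heq] at hfg
  haveI := Module.Finite.iff_fg.mpr hfg
  exact Module.Finite.equiv (LinearEquiv.ofInjective _ hinj).symm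

/-- Finite presentation of flat modules descends along a Milnor square. -/
lemma finitePresentation_of_baseChange [Module.Flat B (B ⊗[B'] L)] [Module.Flat A' (A' ⊗[B'] L)]
    [Module.FinitePresentation B (B ⊗[B'] L)] [Module.FinitePresentation A' (A' ⊗[B'] L)] :
    Module.FinitePresentation B' L := by
  haveI := finite_of_baseChange hsq (L := L)
  haveI := flat_of_baseChange hsq (L := L)
  obtain ⟨n, π, hπ⟩ := Module.Finite.exists_fin' B' L
  haveI := finite_baseChange_ker (S := B) π hπ
  haveI := finite_baseChange_ker (S := A') π hπ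
  exact Module.finitePresentation_of_surjective π hπ (Module.Finite.iff_fg.mp (finite_of_baseChange hsq))

end Groth.Agent.EtMilLib
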