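import Groth.Agent.EtMilLib.AlgDescent

/-! Milnor squares: finite presentation in a relative situation. -/

universe u

open TensorProduct

namespace Groth.Agent.EtMilLib

section

variable {R S P Q : Type u} [CommRing R] [CommRing S] [CommRing P] [CommRing Q]
  [Algebra R S] [Algebra R P] [Algebra S Q] [Algebra P Q] [Algebra R Q]
  [IsScalarTower R S Q] [IsScalarTower R P Q] [Algebra.IsPushout R S P Q]

lemma bijective_liftBaseChange_pushout {X Y : Type u} [AddCommGroup X] [Module R X] [Module P X]
    [IsScalarTower R P X] [AddCommGroup Y] [Module R Y] [Module S Y] [Module P Y] [Module Q Y]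
    [IsScalarTower R S Y] [IsScalarTower R P Y] [IsScalarTower P Q Y] [IsScalarTower S Q Y]
    (g : X →ₗ[P] Y) (h : Function.Bijective (LinearMap.liftBaseChange S (g.restrictScalars R))) :
    Function.Bijective (LinearMap.liftBaseChange Q g) := by
  let e := Algebra.IsPushout.cancelBaseChange R S P Q X
  have he : ∀ z, LinearMap.liftBaseChange Q g (e.symm z) = LinearMap.liftBaseChange S (g.restrictScalars R) z := by
    intro z
    induction z with
    | zero => simp
    | tmul s x => simp [e, algebraMap_smul]
    | add a b ha hb => simp only [map_add, ha, hb]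
  have : ⇑(LinearMap.liftBaseChange Q g) = ⇑(LinearMap.liftBaseChange S (g.restrictScalars R)) ∘ e := by
    funext z
    rw [Function.comp_apply, ← he, LinearEquiv.symm_apply_apply]
  rw [this]
  exact h.comp e.bijective

lemma exists_fg_ker_baseChange {M L : Type u} [AddCommGroup M] [Module P M] [Module R M] [IsScalarTower R P M]
    [AddCommGroup L] [Module P L] [Module R L] [IsScalarTower R P L] [Module.Finite P M]
    (f : M →ₗ[P] L) (hf : Function.Surjective f) [Module.FinitePresentation Q (Q ⊗[P] L)] :
    ∃ N : Submodule P M, N.FG ∧ N ≤ LinearMap.ker f ∧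
      LinearMap.ker ((f.restrictScalars R).lTensor S) ≤
        LinearMap.range ((N.restrictScalars R).subtype.lTensor S) := by
  classical
  have hsurj : Function.Surjective (f.baseChange Q) := by
    rw [LinearMap.baseChange_eq_ltensor]; exact LinearMap.lTensor_surjective Q hf
  have hfg : (LinearMap.ker (f.baseChange Q)).FG := Module.FinitePresentation.fg_ker _ hsurj
  have hex := lTensor_exact Q (LinearMap.exact_subtype_ker_map f) hf
  have hker : LinearMap.ker (f.baseChange Q) =
      Submodule.span Q ((fun m : M => ((1 : Q) ⊗ₜ[P] m : Q ⊗[P] M)) '' (LinearMap.ker f : Set M)) := by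
    refine le_antisymm (fun x hx => ?_) (Submodule.span_le.mpr ?_)
    · obtain ⟨y, rfl⟩ := (hex x).mp hx
      clear hx
      induction y with
      | zero => rw [map_zero]; exact zero_mem _
      | add a b ha hb => rw [map_add]; exact add_mem ha hb
      | tmul q m =>
        rw [LinearMap.lTensor_tmul]
        have : (q ⊗ₜ[P] ((LinearMap.ker f).subtype m) : Q ⊗[P] M) = q • ((1 : Q) ⊗ₜ[P] (m : M)) := by
          rw [TensorProduct.smul_tmul', smul_eq_mul, mul_one]; rfl
        rw [this]
        exact Submodule.smul_mem _ _ (Submodule.subset_span ⟨m, m.2, rfl⟩)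
    · rintro _ ⟨m, hm, rfl⟩
      simp [LinearMap.mem_ker.mp hm]
  rw [hker] at hfg
  obtain ⟨t, hts, ht⟩ := (Submodule.fg_span_iff_fg_span_finset_subset _).mp hfg
  choose m hm hmt using fun y : t => hts y.2
  refine ⟨Submodule.span P (Set.range m), Submodule.fg_span (Set.finite_range m),
    Submodule.span_le.mpr (Set.range_subset_iff.mpr hm), fun x hx => ?_⟩
  let e := Algebra.IsPushout.cancelBaseChange R S P Q M
  let eL := Algebra.IsPushout.cancelBaseChange R S P Q L
  have hnat : ∀ z, f.baseChange Q (e.symm z) = eL.symm ((f.restrictScalars R).lTensor S z) := by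
    intro z
    induction z with
    | zero => simp
    | tmul s x => simp [e, eL]
    | add a b ha hb => simp only [map_add, ha, hb]
  have hx' : e.symm x ∈ LinearMap.ker (f.baseChange Q) := by
    rw [LinearMap.mem_ker, hnat, LinearMap.mem_ker.mp hx, map_zero]
  rw [hker, ht] at hx'
  clear hx
  have key : ∀ y ∈ Submodule.span Q (t : Set (Q ⊗[P] M)),
      ∃ η : Q ⊗[P] Submodule.span P (Set.range m), (Submodule.span P (Set.range m)).subtype.baseChange Q η = y := by
    intro y hy
    induction hy using Submodule.span_induction with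
    | mem y hy => exact ⟨1 ⊗ₜ ⟨m ⟨y, hy⟩, Submodule.subset_span ⟨_, rfl⟩⟩, hmt ⟨y, hy⟩⟩
    | zero => exact ⟨0, map_zero _⟩
    | add a b _ _ ha hb =>
      obtain ⟨u, rfl⟩ := ha; obtain ⟨v, rfl⟩ := hb
      exact ⟨u + v, map_add _ _ _⟩
    | smul c a _ ha =>
      obtain ⟨u, rfl⟩ := ha
      exact ⟨c • u, map_smul _ _ _⟩
  obtain ⟨η, hη⟩ := key _ hx'
  let eN := Algebra.IsPushout.cancelBaseChange R S P Q (Submodule.span P (Set.range m))
  have hnat' : ∀ z, (Submodule.span P (Set.range m)).subtype.baseChange Q (eN.symm z) =
      e.symm (((Submodule.span P (Set.range m)).subtype.restrictScalars R).lTensor S z) := by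
    intro z
    induction z with
    | zero => simp
    | tmul s x => simp [e, eN]
    | add a b ha hb => simp only [map_add, ha, hb]
  refine ⟨eN η, e.symm.injective ?_⟩
  rw [← hη, ← eN.symm_apply_apply η, hnat', LinearEquiv.symm_apply_apply]
  rfl

end

end Groth.Agent.EtMilLib
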