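import Groth.Agent.HTor95.Tor
import Mathlib

/-! The six term piece of the long exact `Tor` sequence in the second variable. -/

universe u

open CategoryTheory CategoryTheory.Limits MonoidalCategory

namespace Groth.Agent.EtMilLib

open DRing.Tensor DRing.KFlat DRing.SingleTensor HTor95.Tor

variable {A : Type u} [CommRing A]

/-- `N ↦ P ⊗ N` against `N ↦ P ⊗ N[0]`. -/
noncomputable def tensorCxFIso (P : _root_.DRing.Cx A) :
    tensorCxF P ≅ CochainComplex.singleFunctor (ModuleCat.{u} A) 0 ⋙ TL P :=
  NatIso.ofComponents (fun N => DRing.SingleTensor.iso N P ≪≫ braid (S0 N) P) fun {N N'} g => by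
    let g' : S0 N ⟶ S0 N' := (HomologicalComplex.single (ModuleCat.{u} A) (ComplexShape.up ℤ) 0).map g
    have h : (tensorCxF P).map g ≫ (DRing.SingleTensor.iso N' P).hom = (DRing.SingleTensor.iso N P).hom ≫ g' ▷ P := by
      refine HomologicalComplex.hom_ext _ _ fun n => ?_
      change P.X n ◁ g ≫ toT N' P n = toT N P n ≫ (g' ▷ P).f n
      unfold toT
      rw [Category.assoc, Category.assoc, ιT_whiskerRight, BraidedCategory.braiding_naturality_right_assoc,
        ← comp_whiskerRight_assoc, ← comp_whiskerRight_assoc]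
      congr 2
    change (tensorCxF P).map g ≫ ((DRing.SingleTensor.iso N' P).hom ≫ (braid (S0 N') P).hom) =
      ((DRing.SingleTensor.iso N P).hom ≫ (braid (S0 N) P).hom) ≫ P ◁ g'
    have h2 : g' ▷ P ≫ (braid (S0 N') P).hom = (braid (S0 N) P).hom ≫ P ◁ g' := by
      rw [whiskerRight_eq, Category.assoc, Category.assoc, Iso.inv_hom_id, Category.comp_id]
    exact ((Category.assoc _ _ _).symm.trans (congrArg (· ≫ (braid (S0 N') P).hom) h)).trans
      ((Category.assoc _ _ _).trans ((congrArg ((DRing.SingleTensor.iso N P).hom ≫ ·) h2).trans (Category.assoc _ _ _).symm))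

/-- `Tor₁(M, X₂) → Tor₁(M, X₃)` is epi iff `M ⊗ X₁ → M ⊗ X₂` is mono. -/
theorem epi_tor_map_iff (M : ModuleCat.{u} A) {S : ShortComplex (ModuleCat.{u} A)} (hS : S.ShortExact) :
    Epi (((Tor (ModuleCat.{u} A) 1).obj M).map S.g) ↔ Mono (M ◁ S.f) := by
  let P := projectiveResolution M
  let K := P.cochainComplex
  let e : ∀ n : ℕ, (Tor (ModuleCat.{u} A) n).obj M ≅ tensorH K (-(n : ℤ)) := fun n =>
    objIso P n ≪≫ (Functor.associator _ _ _).symm ≪≫
      Functor.isoWhiskerRight (tensorCxFIso K).symm (HomologicalComplex.homologyFunctor _ _ _)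
  haveI hflat : ∀ i, Module.Flat A (K.X i) := fun i =>
    haveI : Module.Projective A (P.cochainComplex.X i) :=
      (IsProjective.iff_projective _).2 (inferInstanceAs (Projective (P.cochainComplex.X i)))
    inferInstance
  let T : ShortComplex (_root_.DRing.Cx A) :=
    ShortComplex.mk ((tensorCxF K).map S.f) ((tensorCxF K).map S.g) (by
      refine HomologicalComplex.hom_ext _ _ fun n => ?_
      change K.X n ◁ S.f ≫ K.X n ◁ S.g = 0
      rw [← MonoidalCategory.whiskerLeft_comp, S.zero, MonoidalPreadditive.whiskerLeft_zero])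
  have hT : T.ShortExact := HomologicalComplex.shortExact_of_degreewise_shortExact T fun n => by
    have hinj := Module.Flat.lTensor_preserves_injective_linearMap (M := K.X n) S.f.hom hS.moduleCat_injective_f
    refine
      { exact := ?_
        mono_f := (ModuleCat.mono_iff_injective _).2 hinj
        epi_g := (ModuleCat.epi_iff_surjective _).2 (LinearMap.lTensor_surjective _ hS.moduleCat_surjective_g) }
    rw [ShortComplex.moduleCat_exact_iff_range_eq_ker]
    exact (LinearMap.exact_iff.mp (lTensor_exact (K.X n) ((ShortComplex.ShortExact.moduleCat_exact_iff_function_exact S).mp hS.exact) hS.moduleCat_surjective_g)).symm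
  have h1 : Epi (((Tor (ModuleCat.{u} A) 1).obj M).map S.g) ↔ Epi (HomologicalComplex.homologyMap T.g (-1)) :=
    (MorphismProperty.epimorphisms _).arrow_mk_iso_iff (Arrow.isoMk ((e 1).app S.X₂) ((e 1).app S.X₃) ((e 1).hom.naturality S.g).symm)
  have h0 : Mono (M ◁ S.f) ↔ Mono (HomologicalComplex.homologyMap T.f 0) := by
    let F := (tensoringLeft (ModuleCat.{u} A)).obj M
    haveI : PreservesFiniteColimits F := by
      haveI : PreservesColimitsOfSize.{0, 0} F := inferInstanceAs (PreservesColimitsOfSize.{0, 0} (tensorLeft M))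
      exact PreservesColimitsOfSize.preservesFiniteColimits F
    let e0 : F ≅ tensorH K (-((0 : ℕ) : ℤ)) := F.leftDerivedZeroIsoSelf.symm ≪≫ e 0
    exact (MorphismProperty.monomorphisms _).arrow_mk_iso_iff (Arrow.isoMk (e0.app S.X₁) (e0.app S.X₂) (e0.hom.naturality S.f).symm)
  rw [h1, h0]
  constructor
  · intro h
    have hd : hT.δ (-1) 0 (by simp) = 0 := by
      rw [← cancel_epi (HomologicalComplex.homologyMap T.g (-1)), hT.comp_δ, comp_zero]
    exact (hT.homology_exact₁ (-1) 0 (by simp)).mono_g hd
  · intro h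
    have hd : hT.δ (-1) 0 (by simp) = 0 := by
      rw [← cancel_mono (HomologicalComplex.homologyMap T.f 0), hT.δ_comp, zero_comp]
    exact (hT.homology_exact₃ (-1) 0 (by simp)).epi_f hd

theorem additive_tor (M : ModuleCat.{u} A) (n : ℕ) : ((Tor (ModuleCat.{u} A) n).obj M).Additive := by
  let P := projectiveResolution M
  have : (tensorCxF P.cochainComplex).Additive :=
    { map_add := fun {X Y f g} => HomologicalComplex.hom_ext _ _ fun i => MonoidalPreadditive.whiskerLeft_add f g }
  exact Functor.additive_of_iso (objIso P n ≪≫ (Functor.associator _ _ _).symm ≪≫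
    Functor.isoWhiskerRight (tensorCxFIso P.cochainComplex).symm (HomologicalComplex.homologyFunctor _ _ _)).symm

end Groth.Agent.EtMilLib
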